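import Groth.Agent.L22.Reg.Lin

/-!
Lifting morphisms out of a twist along an epimorphism of modules on projective space.
-/

set_option autoImplicit false
set_option backward.isDefEq.respectTransparency false
universe u

open CategoryTheory CategoryTheory.Limits AlgebraicGeometry

noncomputable section

namespace Groth.L13.GrSheaf

open Groth.L00.Tensor (tensorMap tensorIso tensorRightF)
open Groth.L16
open Groth.L16.CohLinear (hmap hmap_comp exact_hmap_hmap exact_hmap_delta)
open Groth.L21.RR (e0 e0_hmap oneSec exists_hom_of_hh0)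
open Groth.L18.GenLoc (secOf homOfSection_secOf)
open Groth.L22.Reg

variable {k : Type u} [Field k] {n : ℕ}

/-- Twisting is inverse to twisting by the opposite integer. -/
theorem exists_inverse (t : ℤ) :
    Nonempty (CohB1.tensorMod (O' n k t) (O' n k (-t)) ≅ Coh.structureModule (CohB1.ProjSpace n k)) := by
  obtain ⟨e⟩ := nonempty_O_add (n := n) (R := k) (show t + -t = 0 by omega)
  obtain ⟨e'⟩ := nonempty_O_zero n k
  exact ⟨e ≪≫ e'⟩

/-- Twisting as an equivalence. -/
theorem isEquivalence_tw (t : ℤ) : (tensorRightF (O' n k t)).IsEquivalence := by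
  obtain ⟨e⟩ := exists_inverse (k := k) (n := n) t
  obtain ⟨e'⟩ := exists_inverse (k := k) (n := n) (-t)
  rw [neg_neg] at e'
  exact (CategoryTheory.Equivalence.mk (tensorRightF (O' n k t)) (tensorRightF (O' n k (-t)))
    (NatIso.ofComponents (fun G => cI e G) (fun g => cI_natural e g)).symm
    (NatIso.ofComponents (fun G => cI e' G) (fun g => cI_natural e' g))).isEquivalence_functor

/-- Lifting a global section. -/
theorem exists_lift_section {S : ShortComplex (CohB1.ProjSpace n k).Modules} (hS : S.ShortExact)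
    (h1 : Subsingleton (Coh.HH (CohB1.ProjSpace n k) S.X₁ 1))
    (σ : Coh.structureModule (CohB1.ProjSpace n k) ⟶ S.X₃) :
    ∃ lam : Coh.structureModule (CohB1.ProjSpace n k) ⟶ S.X₂, lam ≫ S.g = σ := by
  obtain ⟨z, hz⟩ := ((exact_hmap_delta hS 0) ((e0 _).symm (secOf (L := S.X₃) σ))).1
    (Subsingleton.elim (h := h1) _ _)
  obtain ⟨lam, hlam⟩ := exists_hom_of_hh0 z
  refine ⟨lam, (homOfSection_secOf _).symm.trans ((congrArg (Groth.L16.homOfSection _) ?_).trans
    (homOfSection_secOf _))⟩
  show S.g.app ⊤ (lam.app ⊤ (oneSec _)) = _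
  rw [hlam, ← e0_hmap]
  exact (congrArg (e0 _) hz).trans (AddEquiv.apply_symm_apply _ _)

/-- Lifting through a fully faithful functor. -/
theorem exists_lift_of_functor {C D : Type*} [Category C] [Category D] (T : C ⥤ D) [T.Full] [T.Faithful]
    {X A B : C} {U : D} (g : A ⟶ B) (e : T.obj X ≅ U) (hl : ∀ σ : U ⟶ T.obj B, ∃ l, l ≫ T.map g = σ)
    (h : X ⟶ B) : ∃ l : X ⟶ A, l ≫ g = h := by
  obtain ⟨lam, hlam⟩ := hl (e.inv ≫ T.map h)
  refine ⟨T.preimage (e.hom ≫ lam), T.map_injective ?_⟩
  rw [Functor.map_comp, Functor.map_preimage, Category.assoc, hlam, Iso.hom_inv_id_assoc]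

/-- Morphisms out of `O(-t)` lift when the first cohomology of the twisted kernel vanishes. -/
theorem exists_lift {S : ShortComplex (CohB1.ProjSpace n k).Modules} (hS : S.ShortExact) (t : ℤ)
    (h1 : Subsingleton (Coh.HH (CohB1.ProjSpace n k) (tw' S.X₁ t) 1)) (h : O' n k (-t) ⟶ S.X₃) :
    ∃ l : O' n k (-t) ⟶ S.X₂, l ≫ S.g = h := by
  haveI := isEquivalence_tw (k := k) (n := n) t
  obtain ⟨e⟩ := exists_inverse (k := k) (n := n) (-t)
  rw [neg_neg] at e
  exact exists_lift_of_functor (tensorRightF (O' n k t)) S.g e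
    (fun σ => exists_lift_section (shortExact_tw hS t) h1 σ) h

end Groth.L13.GrSheaf
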