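import Groth.Agent.L13.GrSheaf.Hom
import Groth.Agent.L13.GrSheaf.Lift
import Groth.Agent.L12.GrLCReg
import Groth.Agent.L12.GrLCAinv

/-!
Vanishing of local cohomology of graded modules whose high pieces are the sections of a regular sheaf.
-/

set_option autoImplicit false
set_option backward.isDefEq.respectTransparency false
universe u

open CategoryTheory CategoryTheory.Limits AlgebraicGeometry TopologicalSpace Opposite TopCat
open scoped Pointwise

noncomputable section

namespace Groth.L13.GrSheaf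

open Groth.L22.SyzTilde
open Groth.L22.Reg (Regular O' tw' shortExact_tw)
open Groth.L12.GrSyzLib Groth.L12.GrLCLib

variable {k : Type u} [Field k] {r : ℕ}

local notation "𝔪₀" => GrSyz.irrel (GrSyz.stdGr k (Fin (r + 1)))

/-- A graded module mapping to the sections of an `m`-regular coherent sheaf, surjectively in degree `m` and
injectively in larger degrees. -/
structure Cls (r m : ℕ) {M : Type u} [AddCommGroup M] [Module k M] [Module (S r k) M]
    (ℳ : ℤ → Submodule k M) where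
  /-- the sheaf -/
  F : (PS r k).Modules
  coh : Coh.IsCoh F
  reg : Regular (n := r) (R := k) F (m : ℤ)
  /-- the map to the sections -/
  Ψ : ∀ (n : ℤ) (u : M), u ∈ ℳ n → (Tw r k (-n) ⟶ F)
  add : ∀ (n : ℤ) (u v : M) (hu : u ∈ ℳ n) (hv : v ∈ ℳ n), Ψ n (u + v) (add_mem hu hv) = Ψ n u hu + Ψ n v hv
  compat : ∀ (δ e n : ℤ) (p : S r k) (u : M) (hp : p ∈ G r k δ) (hu : u ∈ ℳ e) (h : -n + δ = -e)
    (hpu : p • u ∈ ℳ n), L22.SyzTilde.mulHom (n := -n) (n' := -e) hp h ≫ Ψ e u hu = Ψ n (p • u) hpu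
  surj : ∀ φ : Tw r k (-(m : ℤ)) ⟶ F, ∃ (u : M) (hu : u ∈ ℳ (m : ℤ)), Ψ (m : ℤ) u hu = φ
  inj : ∀ (n : ℤ), (m : ℤ) < n → ∀ (u : M) (hu : u ∈ ℳ n), Ψ n u hu = 0 → u = 0

section Free

variable {b : ℕ} {m : ℤ}

/-- A vector of forms as a morphism into a sum of twists. -/
def vecHom {n : ℤ} (v : Fin b → S r k) (hv : v ∈ fr (fun _ : Fin b => m) n) :
    Tw r k (-n) ⟶ Fr (r := r) (k := k) (fun _ : Fin b => m) :=
  ∑ a, L22.SyzTilde.mulHom (n := -n) (n' := -m) (mem_fr.1 hv a) (by omega) ≫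
    Sigma.ι (fun _ : Fin b => Twist.twist (CohB1.polyGrading r k) (-m)) a

theorem vecHom_pr {n : ℤ} (v : Fin b → S r k) (hv : v ∈ fr (fun _ : Fin b => m) n) (a : Fin b) :
    vecHom v hv ≫ pr (fun _ : Fin b => m) a =
      L22.SyzTilde.mulHom (n := -n) (n' := -m) (mem_fr.1 hv a) (by omega) := by
  rw [vecHom, Preadditive.sum_comp, Finset.sum_eq_single a]
  · rw [Category.assoc]
    erw [ι_pr_self (fun _ : Fin b => m) a]
    exact Category.comp_id _
  · intro c _ hc
    rw [Category.assoc]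
    erw [ι_pr_ne (fun _ : Fin b => m) hc]
    exact comp_zero
  · simp

theorem ext_pr {A : (PS r k).Modules} {f g : A ⟶ Fr (r := r) (k := k) (fun _ : Fin b => m)}
    (h : ∀ a, f ≫ pr (fun _ : Fin b => m) a = g ≫ pr (fun _ : Fin b => m) a) : f = g := by
  rw [← Category.comp_id f, ← Category.comp_id g, ← sum_pr_ι (fun _ : Fin b => m), Preadditive.comp_sum,
    Preadditive.comp_sum]
  exact Finset.sum_congr rfl fun a _ => by rw [← Category.assoc, h a, Category.assoc]

theorem vecHom_add {n : ℤ} (v w : Fin b → S r k) (hv : v ∈ fr (fun _ : Fin b => m) n)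
    (hw : w ∈ fr (fun _ : Fin b => m) n) : vecHom (v + w) (add_mem hv hw) = vecHom v hv + vecHom w hw :=
  ext_pr fun a => by
    rw [Preadditive.add_comp, vecHom_pr, vecHom_pr, vecHom_pr]
    exact mulHom_add (mem_fr.1 hv a) (mem_fr.1 hw a) (by omega)

theorem vecHom_comp {δ e n : ℤ} (p : S r k) (v : Fin b → S r k) (hp : p ∈ G r k δ)
    (hv : v ∈ fr (fun _ : Fin b => m) e) (h : -n + δ = -e) (hpv : p • v ∈ fr (fun _ : Fin b => m) n) :
    L22.SyzTilde.mulHom (n := -n) (n' := -e) hp h ≫ vecHom v hv = vecHom (p • v) hpv :=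
  ext_pr fun a => by
    rw [Category.assoc, vecHom_pr, vecHom_pr, mulHom_comp]
    exact ext_of_stalks fun x z => evalT_injective (-m) x ((evalT_mulHom _ _ x z).trans
      (((congrArg (fun q => toLoc x q * evalT (-n) x z) (show v a * p = (p • v) a from mul_comm _ _))).trans
        (evalT_mulHom _ _ x z).symm))

theorem eq_zero_of_vecHom {n : ℕ} (v : Fin b → S r k) (hv : v ∈ fr (fun _ : Fin b => m) (n : ℤ))
    (h : vecHom v hv = 0) : v = 0 := funext fun a => by
  have h' := vecHom_pr v hv a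
  rw [h, zero_comp] at h'
  exact eq_zero_of_mulHom_eq_zero (n := n) rfl (mem_fr.1 hv a) _ h'.symm

theorem exists_eq_vecHom {n : ℤ} (hn : m ≤ n) (ψ : Tw r k (-n) ⟶ Fr (r := r) (k := k) (fun _ : Fin b => m)) :
    ∃ (v : Fin b → S r k) (hv : v ∈ fr (fun _ : Fin b => m) n), ψ = vecHom v hv := by
  choose p hp he using fun a => exists_eq_mulHom (k := k) (r := r) (a := -n) (b := -m) (δ := n - m) (by omega)
    (by omega) (ψ ≫ pr (fun _ : Fin b => m) a)
  exact ⟨p, mem_fr.2 hp, ext_pr fun a => by rw [vecHom_pr]; exact he a⟩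

end Free

variable {M : Type u} [AddCommGroup M] [Module k M] [Module (S r k) M] {ℳ : ℤ → Submodule k M} {m : ℕ}

theorem Cls.congr (c : Cls r m ℳ) {n : ℤ} {u v : M} (h : u = v) (hu : u ∈ ℳ n) (hv : v ∈ ℳ n) :
    c.Ψ n u hu = c.Ψ n v hv := by
  subst h; rfl

theorem Cls.map_zero' (c : Cls r m ℳ) (n : ℤ) : c.Ψ n 0 (zero_mem _) = 0 := by
  have h := c.add n 0 0 (zero_mem _) (zero_mem _)
  rw [c.congr (add_zero (0 : M)) _ (zero_mem _)] at h
  exact left_eq_add.1 h

theorem Cls.map_sum (c : Cls r m ℳ) (n : ℤ) {ι : Type*} (s : Finset ι) (u : ι → M) (hu : ∀ i, u i ∈ ℳ n) :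
    c.Ψ n (∑ i ∈ s, u i) (sum_mem fun i _ => hu i) = ∑ i ∈ s, c.Ψ n (u i) (hu i) := by
  classical
  induction s using Finset.induction_on with
  | empty => simp only [Finset.sum_empty]; exact c.map_zero' n
  | insert i s hi ih =>
    refine (c.congr (Finset.sum_insert hi) _ (add_mem (hu i) (sum_mem fun a _ => hu a))).trans ?_
    rw [c.add _ _ _ (hu i) (sum_mem fun a _ => hu a), ih, Finset.sum_insert hi]

theorem Cls.eq_of_eq (c : Cls r m ℳ) {n : ℤ} (hn : (m : ℤ) < n) {u v : M} (hu : u ∈ ℳ n) (hv : v ∈ ℳ n)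
    (h : c.Ψ n u hu = c.Ψ n v hv) : u = v := by
  refine sub_eq_zero.1 (c.inj n hn _ (sub_mem hu hv) ?_)
  have h2 := c.add n (u - v) v (sub_mem hu hv) hv
  rw [c.congr (sub_add_cancel u v) _ hu, h] at h2
  exact right_eq_add.1 h2

/-- Vanishing of local cohomology of a free module. -/
theorem van_fr {b : ℕ} (p : ℤ) (i : ℕ) (g : ℤ) (hg : p - i < g) :
    Van 𝔪₀ (fr (k := k) (σ := Fin (r + 1)) (fun _ : Fin b => p)) i g := by
  have h : Van 𝔪₀ (powG (GrSyz.stdGr k (Fin (r + 1))) (GrSyz.stdGr k (Fin (r + 1))) (fun _ : Fin b => p)).gr i g :=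
    van_powG p ((isRegLE_iff_van (GrSyz.stdGr k (Fin (r + 1))) 0).1 (isRegLE_ring k (Fin (r + 1))) i (g - p)
      (by omega))
  let X := powG (GrSyz.stdGr k (Fin (r + 1))) (GrSyz.stdGr k (Fin (r + 1))) (fun _ : Fin b => p)
  let e₁ : (Fin b → S r k) →ₗ[S r k] X.carrier := (LinearMap.id : (Fin b → S r k) →ₗ[S r k] (Fin b → S r k))
  let e₂ : X.carrier →ₗ[S r k] (Fin b → S r k) := (LinearMap.id : (Fin b → S r k) →ₗ[S r k] (Fin b → S r k))
  exact van_of_iso (ℳ₁ := fr (k := k) (σ := Fin (r + 1)) (fun _ : Fin b => p)) (ℳ₂ := X.gr) 𝔪₀ e₁ e₂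
    (fun _ _ hx b _ => mem_fr.1 hx b) (fun _ _ hx => mem_fr.2 fun b => hx b (Set.mem_univ b)) (fun _ => rfl) h

theorem van_top {M : Type u} [AddCommGroup M] [Module k M] [Module (S r k) M] (ℳ : ℤ → Submodule k M)
    [DirectSum.Decomposition ℳ] [SetLike.GradedSMul (GrSyz.stdGr k (Fin (r + 1))) ℳ] {i : ℕ} (hi : r + 1 < i)
    (g : ℤ) : Van 𝔪₀ ℳ i g := by
  obtain ⟨E⟩ := nonempty_starInjRes (GrSyz.stdGr k (Fin (r + 1))) ℳ
  obtain ⟨e⟩ := nonempty_H_equiv E 𝔪₀ i
  have hn : ringKrullDim (S r k) ≤ ((r + 1 : ℕ) : WithBot ℕ∞) := by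
    rw [MvPolynomial.ringKrullDim_of_isNoetherianRing, ringKrullDim_eq_zero_of_field]
    simp
  haveI := Groth.L04.LC.cdLE_of_ringKrullDim_le (𝔪₀).toIdeal (r + 1) hn M i hi
  exact van_of_subsingleton_H 𝔪₀ E e.toEquiv.subsingleton g

variable [IsScalarTower k (S r k) M]

/-- Vanishing of local cohomology in the class. -/
theorem Cls.van : ∀ (j : ℕ) {M : Type u} [AddCommGroup M] [Module k M] [Module (S r k) M]
    [IsScalarTower k (S r k) M] [Module.Finite (S r k) M] (ℳ : ℤ → Submodule k M) [DirectSum.Decomposition ℳ]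
    [SetLike.GradedSMul (GrSyz.stdGr k (Fin (r + 1))) ℳ] (m : ℕ) (_ : Cls r m ℳ) (i : ℕ),
    r + 1 < i + j → 1 ≤ i → ∀ g : ℤ, (m : ℤ) - i < g → Van 𝔪₀ ℳ i g := by
  intro j
  induction j with
  | zero => intro M _ _ _ _ _ ℳ _ _ m _ i hi _ g _; exact van_top ℳ (by omega) g
  | succ j ih =>
    intro M _ _ _ _ _ ℳ _ _ m c i hij hi g hg
    classical
    obtain ⟨b, φ, hφ, hK⟩ := Groth.L22.Reg.exists_linear_presentation c.coh c.reg
    let φc : Fin b → (Tw r k (-(m : ℤ)) ⟶ c.F) := fun a =>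
      Sigma.ι (fun _ : Fin b => Twist.twist (CohB1.polyGrading r k) (-(m : ℤ))) a ≫ φ
    choose u hu hΨ using fun a => c.surj (φc a)
    let L : (Fin b → S r k) →ₗ[S r k] M := Fintype.linearCombination (S r k) u
    have hL : ∀ (n : ℤ) (v : Fin b → S r k) (hv : v ∈ fr (fun _ : Fin b => (m : ℤ)) n),
        vecHom v hv ≫ φ = c.Ψ n (L v) (lc_mem ℳ hu hv) := by
      intro n v hv
      have hmem : ∀ a, v a • u a ∈ ℳ n := fun a => by
        have := smul_mem_add ℳ (GrSyz.stdGr k (Fin (r + 1))) (mem_fr.1 hv a) (hu a)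
        rwa [sub_add_cancel] at this
      rw [vecHom, Preadditive.sum_comp, c.congr (Fintype.linearCombination_apply (S r k) u v) _
        (sum_mem fun a _ => hmem a), c.map_sum n Finset.univ _ hmem]
      refine Finset.sum_congr rfl fun a _ => ?_
      rw [Category.assoc, ← c.compat _ _ _ _ _ (mem_fr.1 hv a) (hu a) (by omega) (hmem a), hΨ a]
    have hgen : ∀ (n : ℤ), (m : ℤ) < n → ∀ y ∈ ℳ n, y ∈ LinearMap.range L := by
      intro n hn y hy
      obtain ⟨n, rfl⟩ : ∃ n' : ℕ, (n' : ℤ) = n := ⟨n.toNat, Int.toNat_of_nonneg (by omega)⟩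
      let T := ShortComplex.mk (kernel.ι φ) φ (kernel.condition φ)
      have hT : T.ShortExact := { exact := ShortComplex.exact_kernel φ, epi_g := hφ }
      have h1 := (hK.of_le (m' := (n : ℤ) + 1) (by omega)) 1 le_rfl
      rw [show (n : ℤ) + 1 - ((1 : ℕ) : ℤ) = (n : ℤ) by omega] at h1
      obtain ⟨l, hl⟩ := exists_lift hT (n : ℤ) h1 (c.Ψ _ y hy)
      obtain ⟨v, hv, rfl⟩ := exists_eq_vecHom (m := (m : ℤ)) (by omega) l
      exact ⟨v, c.eq_of_eq hn (lc_mem ℳ hu hv) hy ((hL _ v hv).symm.trans hl)⟩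
    have hRh : IsHom ℳ (LinearMap.range L) := fun d x hx => by
      obtain ⟨v, rfl⟩ := hx
      exact ⟨prj (fr fun _ : Fin b => (m : ℤ)) d v, (prj_lc ℳ hu d v).symm⟩
    have hKh : IsHom (fr fun _ : Fin b => (m : ℤ)) (LinearMap.ker L) := ker_lc_isHom ℳ hu
    letI := subDec ℳ hRh
    letI := quotDec ℳ hRh
    letI := subDec (fr fun _ : Fin b => (m : ℤ)) hKh
    have hQ : GrLC.gam (𝔪₀).toIdeal (M ⧸ LinearMap.range L) = ⊤ := by
      refine eq_top_iff.2 fun z hz => ?_
      clear hz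
      obtain ⟨z, rfl⟩ := Submodule.Quotient.mk_surjective _ z
      have key : ∀ (N : ℕ) (e : ℤ) (y : M), y ∈ ℳ e → (m : ℤ) < e + N →
          ∀ p ∈ mm k (Fin (r + 1)) ^ N, p • y ∈ LinearMap.range L := by
        intro N
        induction N with
        | zero => intro e y hy he p _; exact Submodule.smul_mem _ p (hgen e (by simpa using he) y hy)
        | succ N ihN =>
          intro e y hy he p hp
          rw [pow_succ] at hp
          induction hp using Submodule.mul_induction_on' with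
          | add a _ a' _ ha hb => rw [add_smul]; exact add_mem ha hb
          | mem_mul_mem a ha q hq =>
            rw [mm_eq_span_X] at hq
            induction hq using Submodule.span_induction with
            | mem q hq =>
              obtain ⟨l, -, rfl⟩ := hq
              rw [mul_smul]
              refine ihN (1 + e) _ (SetLike.GradedSMul.smul_mem (A := GrSyz.stdGr k (Fin (r + 1)))
                (MvPolynomial.isWeightedHomogeneous_X k _ l) hy) (by push_cast at he; omega) a ha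
            | zero => rw [mul_zero, zero_smul]; exact zero_mem _
            | add q q' _ _ h h' => rw [mul_add, add_smul]; exact add_mem h h'
            | smul q' q _ h => rw [smul_eq_mul, mul_left_comm, mul_smul]; exact Submodule.smul_mem _ q' h
      induction z using DirectSum.Decomposition.inductionOn ℳ with
      | zero => exact zero_mem _
      | @homogeneous e y =>
        refine ⟨((m : ℤ) - e + 1).toNat, fun p hp => ?_⟩
        rw [← Submodule.Quotient.mk_smul, Submodule.Quotient.mk_eq_zero]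
        exact key _ e y.1 y.2 (by omega) p hp
      | add y y' hy hy' => rw [Submodule.Quotient.mk_add]; exact add_mem hy hy'
    have hQgr : GrLC.IsGrHom ℳ (quotGrM ℳ (LinearMap.range L)) (LinearMap.range L).mkQ :=
      fun g x hx => ⟨x, hx, rfl⟩
    refine van_mid (ℳ₁ := subGr ℳ (LinearMap.range L)) (ℳ₂ := ℳ) (ℳ₃ := quotGrM ℳ (LinearMap.range L)) 𝔪₀
      (f := (LinearMap.range L).subtype) (g := (LinearMap.range L).mkQ) (Submodule.subtype_injective _)
      (Submodule.mkQ_surjective _) (by rw [Submodule.range_subtype, Submodule.ker_mkQ]) (fun _ _ hx => hx)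
      hQgr ?_ (van_of_torsion _ hQ hi g)
    refine van_right (ℳ₁ := subGr (fr fun _ : Fin b => (m : ℤ)) (LinearMap.ker L))
      (ℳ₂ := fr (k := k) (σ := Fin (r + 1)) fun _ : Fin b => (m : ℤ)) (ℳ₃ := subGr ℳ (LinearMap.range L)) 𝔪₀
      (f := (LinearMap.ker L).subtype) (g := L.rangeRestrict) (Submodule.subtype_injective _)
      (LinearMap.surjective_rangeRestrict L) (by rw [Submodule.range_subtype, LinearMap.ker_rangeRestrict])
      (fun _ _ hx => hx) (fun _ x hx => lc_mem ℳ hu hx) (van_fr _ i g hg) ?_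
    refine ih (subGr (fr fun _ : Fin b => (m : ℤ)) (LinearMap.ker L)) (m + 1) ?_ (i + 1) (by omega) (by omega) g
      (by push_cast; omega)
    have hlift : ∀ (n : ℤ) (v : LinearMap.ker L) (hv : (v : Fin b → S r k) ∈ fr (fun _ : Fin b => (m : ℤ)) n),
        vecHom (v : Fin b → S r k) hv ≫ φ = 0 := fun n v hv => by
      rw [hL, c.congr (LinearMap.mem_ker.1 v.2) _ (zero_mem _), c.map_zero']
    haveI : IsLocallyNoetherian (PS r k) := inferInstanceAs (IsLocallyNoetherian (CohB1.ProjSpace r k))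
    refine
      { F := kernel φ
        coh := (Groth.L16.CohKernel.isCoh_kernel_cokernel (isCoh_Fr fun _ : Fin b => (m : ℤ)) c.coh φ).1
        reg := by push_cast; exact hK
        Ψ := fun n v hv => kernel.lift φ (vecHom (v : Fin b → S r k) hv) (hlift n v hv)
        add := fun n v w hv hw => ?_
        compat := fun δ e n p v hp hv h hpv => ?_
        surj := fun ψ => ?_
        inj := fun n hn v hv h0 => ?_ }
    · rw [← cancel_mono (kernel.ι φ), Preadditive.add_comp, kernel.lift_ι, kernel.lift_ι, kernel.lift_ι]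
      exact vecHom_add _ _ hv hw
    · rw [← cancel_mono (kernel.ι φ), Category.assoc, kernel.lift_ι, kernel.lift_ι]
      exact vecHom_comp p _ hp hv h hpv
    · obtain ⟨v, hv, he⟩ := exists_eq_vecHom (m := (m : ℤ)) (n := ((m + 1 : ℕ) : ℤ)) (by omega)
        (ψ ≫ kernel.ι φ)
      have hv0 : L v = 0 := c.inj _ (by omega) _ (lc_mem ℳ hu hv) (by
        rw [← hL _ v hv, ← he, Category.assoc, kernel.condition, comp_zero])
      exact ⟨⟨v, hv0⟩, hv, by rw [← cancel_mono (kernel.ι φ), kernel.lift_ι]; exact he.symm⟩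
    · obtain ⟨n, rfl⟩ : ∃ n' : ℕ, (n' : ℤ) = n := ⟨n.toNat, Int.toNat_of_nonneg (by omega)⟩
      refine Subtype.ext (eq_zero_of_vecHom (v : Fin b → S r k) hv ?_)
      have h := congrArg (fun f => f ≫ kernel.ι φ) h0
      simpa using h

end Groth.L13.GrSheaf
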