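import Groth.Agent.L22.SyzTilde.Exact
import Groth.Agent.L22.SyzTilde.Chase
import Groth.Agent.L13.ProjDual.Mul

/-!
Morphisms out of twists given by homogeneous elements.
-/

set_option autoImplicit false
set_option backward.isDefEq.respectTransparency false
universe u

open CategoryTheory CategoryTheory.Limits AlgebraicGeometry TopologicalSpace Opposite TopCat
open DirectSum (decompose decompose_coe decompose_of_mem_same decompose_of_mem_ne decompose_add decompose_zero)

noncomputable section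

namespace Groth.L13.GrSheaf

open Groth.L22.SyzTilde
open Groth.L16

variable {k : Type u} [Field k] {r : ℕ}

/-- `O(n)`. -/
abbrev Tw (r : ℕ) (k : Type u) [Field k] (n : ℤ) : (PS r k).Modules := Twist.twist (CohB1.polyGrading r k) n

theorem st_add {A B : (PS r k).Modules} (x : ProjectiveSpectrum (CohB1.polyGrading r k)) (f g : A ⟶ B)
    (z : (Groth.L21.Mod.stalkF (PS r k) x).obj A) : st x (f + g) z = st x f z + st x g z := by
  rw [st, Functor.map_add]
  rfl

theorem ext_of_stalks {A B : (PS r k).Modules} {f g : A ⟶ B} (h : ∀ x z, st x f z = st x g z) : f = g :=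
  Groth.L21.Mod.hom_ext_stalk fun x => ConcreteCategory.hom_ext _ _ fun z => h x z

section Mul

variable {δ δ' a b c : ℤ} {p q : S r k}

theorem mulHom_add (hp : p ∈ G r k δ) (hq : q ∈ G r k δ) (h : a + δ = b) :
    mulHom (n := a) (n' := b) (add_mem hp hq) h = mulHom hp h + mulHom hq h :=
  ext_of_stalks fun x z => evalT_injective b x (by
    rw [st_add, map_add]
    refine (evalT_mulHom _ h x z).trans ?_
    refine Eq.trans ?_ (congrArg₂ (· + ·) (evalT_mulHom hp h x z) (evalT_mulHom hq h x z)).symm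
    rw [← add_mul, toLoc, Localization.add_mk_self])

theorem mulHom_comp (hp : p ∈ G r k δ) (h : a + δ = b) (hq : q ∈ G r k δ') (h' : b + δ' = c) :
    mulHom (n := a) (n' := b) hp h ≫ mulHom (n' := c) hq h' =
      mulHom (show q * p ∈ G r k (δ' + δ) from SetLike.mul_mem_graded hq hp) (by omega) :=
  ext_of_stalks fun x z => evalT_injective c x (by
    rw [st_comp]
    refine (evalT_mulHom hq h' x _).trans ?_
    refine (congrArg (toLoc x q * ·) (evalT_mulHom hp h x z)).trans ?_
    refine Eq.trans ?_ (evalT_mulHom _ _ x z).symm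
    rw [← mul_assoc, toLoc, toLoc, Localization.mk_mul]
    congr 2
    exact Subtype.ext (mul_one _))

/-- The generic point. -/
theorem exists_generic : ∃ x : ProjectiveSpectrum (CohB1.polyGrading r k), x.asHomogeneousIdeal.toIdeal = ⊥ := by
  haveI : (⊥ : Ideal (S r k)).IsPrime := Ideal.isPrime_bot
  refine ⟨{ asHomogeneousIdeal := ⊥
            isPrime := by simpa using this
            not_irrelevant_le := fun h => ?_ }, by simp⟩
  have hX : (MvPolynomial.X (0 : Fin (r + 1)) : S r k) ∈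
      (HomogeneousIdeal.irrelevant (CohB1.polyGrading r k)).toIdeal :=
    HomogeneousIdeal.mem_irrelevant_of_mem (CohB1.polyGrading r k) one_pos
      (Groth.L16.ProjSpace.X_mem r k 0)
  exact MvPolynomial.X_ne_zero (0 : Fin (r + 1)) ((Submodule.mem_bot _).1 (show _ ∈ (⊥ : Ideal (S r k)) from h hX))

theorem eq_zero_of_mulHom_eq_zero {n : ℕ} (hn : a = -(n : ℤ)) (hp : p ∈ G r k δ) (h : a + δ = b)
    (h0 : mulHom (n := a) (n' := b) hp h = 0) : p = 0 := by
  obtain ⟨x, hx⟩ := exists_generic (k := k) (r := r)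
  have hX : ((MvPolynomial.X (0 : Fin (r + 1)) : S r k) ^ n) ∈ CohB1.polyGrading r k n := by
    simpa using SetLike.pow_mem_graded n (Groth.L16.ProjSpace.X_mem r k (0 : Fin (r + 1)))
  have hXne : ((MvPolynomial.X (0 : Fin (r + 1)) : S r k) ^ n) ≠ 0 := pow_ne_zero _ (MvPolynomial.X_ne_zero _)
  have hXx : ((MvPolynomial.X (0 : Fin (r + 1)) : S r k) ^ n) ∉ x.asHomogeneousIdeal := fun hh =>
    hXne ((Submodule.mem_bot _).1 (hx ▸ hh : _ ∈ (⊥ : Ideal (S r k))))
  obtain ⟨z, hz⟩ := exists_evalT_eq (𝒜 := CohB1.polyGrading r k) (n := a) (x := x)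
    (⟨1, SetLike.GradedOne.one_mem⟩ : CohB1.polyGrading r k 0) ⟨_, hX⟩ hXx (by simp [hn])
  have e := evalT_mulHom hp h x z
  rw [hz, h0] at e
  rw [show ((Groth.L21.Mod.stalkF (Proj (CohB1.polyGrading r k)) x).map
      (0 : Tw r k a ⟶ Tw r k b)) z = 0 from st_zero x z, map_zero, toLoc, Localization.mk_mul] at e
  rw [← Localization.mk_zero (1 : x.asHomogeneousIdeal.toIdeal.primeCompl), Localization.mk_eq_mk_iff,
    Localization.r_iff_exists] at e
  obtain ⟨⟨c, hc⟩, e⟩ := e
  have hcne : c ≠ 0 := fun h => hc (h ▸ zero_mem _)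
  simpa [hcne, hXne] using e.symm

theorem exists_eq_mulHom (h : a + δ = b) (hδ : 0 ≤ δ) (φ : Tw r k a ⟶ Tw r k b) :
    ∃ (p : S r k) (hp : p ∈ G r k δ), φ = mulHom hp h := by
  obtain ⟨i, rfl⟩ := Int.eq_ofNat_of_zero_le hδ
  obtain ⟨P, rfl⟩ := Groth.L13.ProjDual.exists_eq_mulHom h φ
  refine ⟨P.1, mem_G_cast.2 P.2, ?_⟩
  refine Groth.L13.ProjDual.hom_ext_sec fun W f => Groth.L16.ProjTwist.sectN_ext fun x => ?_
  exact rfl

end Mul

section Rho

variable {M : Type u} [AddCommGroup M] [Module k M] [Module (S r k) M] {ℳ : ℤ → Submodule k M}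
  [DirectSum.Decomposition ℳ] [SetLike.GradedSMul (G r k) ℳ]
  [SetLike.GradedSMul (CohB1.polyGrading r k) (fun n : ℕ => ℳ (n : ℤ))]

theorem rhoHom_add {e n : ℤ} {m m' : M} (hm : m ∈ ℳ e) (hm' : m' ∈ ℳ e) (h : n + e = 0) :
    rhoHom (r := r) (k := k) (ℳ := ℳ) (add_mem hm hm') h = rhoHom hm h + rhoHom hm' h :=
  ext_of_stalks fun x z => evalM_injective 0 x (by
    rw [st_add, map_add]
    refine (evalM_rhoHom _ h x z).trans ?_
    refine Eq.trans ?_ (congrArg₂ (· + ·) (evalM_rhoHom hm h x z) (evalM_rhoHom hm' h x z)).symm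
    rw [← smul_add, LocalizedModule.mk_add_mk]
    congr 1
    rw [LocalizedModule.mk_eq]
    exact ⟨1, by simp [Submonoid.smul_def]⟩)

theorem mulHom_rhoHom {δ e a n : ℤ} {p : S r k} {m : M} (hp : p ∈ G r k δ) (hm : m ∈ ℳ e) (h : a + δ = n)
    (h' : n + e = 0) :
    mulHom (n := a) hp h ≫ rhoHom (r := r) (k := k) (ℳ := ℳ) hm h' =
      rhoHom (show p • m ∈ ℳ (δ + e) from SetLike.GradedSMul.smul_mem (A := G r k) hp hm) (by omega) :=
  ext_of_stalks fun x z => evalM_injective 0 x (by
    rw [st_comp]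
    refine (evalM_rhoHom hm h' x _).trans ?_
    refine (congrArg (fun c : Twist.Loc (CohB1.polyGrading r k) x => c • (LocalizedModule.mk m
      ⟨1, Groth.L16.ProjTwist.one_notMem _ x⟩ : GrTilde.LocMod (CohB1.polyGrading r k) (M := M) x))
      (evalT_mulHom hp h x z)).trans ?_
    refine Eq.trans ?_ (evalM_rhoHom _ _ x z).symm
    rw [mul_comm, mul_smul, toLoc, LocalizedModule.mk_smul_mk]
    congr 2
    exact Subtype.ext (mul_one _))

/-- An element giving the zero morphism is killed by a power of every variable. -/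
theorem exists_pow_smul_eq_zero [IsScalarTower k (S r k) M] {e : ℕ} {m : M} (hm : m ∈ ℳ (e : ℤ))
    (h0 : rhoHom (r := r) (k := k) (ℳ := ℳ) (n := -(e : ℤ)) hm (by omega) = 0) (i : Fin (r + 1)) :
    ∃ N : ℕ, (MvPolynomial.X i : S r k) ^ N • m = 0 := by
  classical
  let I : Ideal (S r k) := LinearMap.ker (LinearMap.toSpanSingleton (S r k) M m)
  have hI : I.IsHomogeneous (CohB1.polyGrading r k) := fun j p hp => by
    have hp' : p • m = 0 := hp
    show (decompose (CohB1.polyGrading r k) p j : S r k) • m = 0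
    have key : ∀ q : S r k, (decompose ℳ (q • m) ((j : ℤ) + e) : M) =
        (decompose (CohB1.polyGrading r k) q j : S r k) • m := by
      intro q
      induction q using DirectSum.Decomposition.inductionOn (CohB1.polyGrading r k) with
      | zero => simp
      | @homogeneous l q =>
        rcases eq_or_ne l j with rfl | hl
        · rw [decompose_coe, DirectSum.of_eq_same, decompose_of_mem_same ℳ]
          exact SetLike.GradedSMul.smul_mem (A := G r k) (mem_G_cast.2 q.2) hm
        · rw [decompose_coe, DirectSum.of_eq_of_ne _ _ _ hl.symm, decompose_of_mem_ne ℳ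
            (show (q : S r k) • m ∈ ℳ ((l : ℤ) + e) from
              SetLike.GradedSMul.smul_mem (A := G r k) (mem_G_cast.2 q.2) hm) (by omega)]
          simp
      | add q q' hq hq' =>
        rw [add_smul, decompose_add, decompose_add, DirectSum.add_apply, DirectSum.add_apply, Submodule.coe_add,
          Submodule.coe_add, add_smul, hq, hq']
    rw [← key p, hp', decompose_zero]
    rfl
  suffices hX : (MvPolynomial.X i : S r k) ∈ I.radical by
    obtain ⟨N, hN⟩ := hX
    exact ⟨N, hN⟩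
  rw [hI.radical_eq, Ideal.mem_sInf]
  rintro P ⟨hPh, hIP, hP⟩
  by_contra hXP
  let x : ProjectiveSpectrum (CohB1.polyGrading r k) :=
    { asHomogeneousIdeal := ⟨P, hPh⟩
      isPrime := hP
      not_irrelevant_le := fun h => hXP (h (HomogeneousIdeal.mem_irrelevant_of_mem
        (CohB1.polyGrading r k) one_pos (Groth.L16.ProjSpace.X_mem r k i))) }
  have hXe : ((MvPolynomial.X i : S r k) ^ e) ∈ CohB1.polyGrading r k e := by
    simpa using SetLike.pow_mem_graded e (Groth.L16.ProjSpace.X_mem r k i)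
  have hXx : ((MvPolynomial.X i : S r k) ^ e) ∉ x.asHomogeneousIdeal := fun hh => hXP (hP.mem_of_pow_mem e hh)
  obtain ⟨z, hz⟩ := exists_evalT_eq (𝒜 := CohB1.polyGrading r k) (n := -(e : ℤ)) (x := x)
    (⟨1, SetLike.GradedOne.one_mem⟩ : CohB1.polyGrading r k 0) ⟨_, hXe⟩ hXx (by simp)
  have he := evalM_rhoHom (r := r) (k := k) (ℳ := ℳ) hm (show -(e : ℤ) + e = 0 by omega) x z
  rw [hz, h0, show ((Groth.L21.Mod.stalkF (Proj (CohB1.polyGrading r k)) x).map
      (0 : Tw r k (-(e : ℤ)) ⟶ GrTilde.tilde (CohB1.polyGrading r k) (fun n : ℕ => ℳ (n : ℤ)) 0)) z = 0 from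
    st_zero x z, map_zero, LocalizedModule.mk_smul_mk, one_smul] at he
  rw [← LocalizedModule.zero_mk (1 : x.asHomogeneousIdeal.toIdeal.primeCompl), LocalizedModule.mk_eq] at he
  obtain ⟨⟨c, hc⟩, he⟩ := he
  simp only [Submonoid.smul_def, smul_zero, OneMemClass.coe_one, one_smul] at he
  exact hc (hIP (show c ∈ I from he.symm))

theorem rhoHom_eq_zero {e n : ℤ} {m : M} (hm : m ∈ ℳ e) (h : n + e = 0)
    (hX : ∀ i, ∃ N : ℕ, (MvPolynomial.X i : S r k) ^ N • m = 0) : rhoHom (r := r) (k := k) (ℳ := ℳ) hm h = 0 :=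
  eq_zero_of_stalks _ fun x z => evalM_injective 0 x (by
    refine (evalM_rhoHom hm h x z).trans ?_
    rw [map_zero]
    obtain ⟨i, hi⟩ := Groth.L16.ProjSpace.exists_mem_basicOpen_X r k x
    obtain ⟨N, hN⟩ := hX i
    have h0 : (LocalizedModule.mk m ⟨1, Groth.L16.ProjTwist.one_notMem _ x⟩ :
        GrTilde.LocMod (CohB1.polyGrading r k) (M := M) x) = 0 := by
      rw [← LocalizedModule.zero_mk (1 : x.asHomogeneousIdeal.toIdeal.primeCompl), LocalizedModule.mk_eq]
      refine ⟨⟨_, fun hh => (Proj.mem_basicOpen _ _ _).1 hi (x.isPrime.mem_of_pow_mem N hh)⟩, ?_⟩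
      simp [Submonoid.smul_def, hN]
    rw [h0, smul_zero])

/-- `M~` of a finite graded module is coherent. -/
theorem isCoh_tilde [IsScalarTower k (S r k) M] (F : GrSyz.FreeRes (G r k) ℳ) :
    Coh.IsCoh (GrTilde.tilde (CohB1.polyGrading r k) (fun n : ℕ => ℳ (n : ℤ)) 0) := by
  haveI := epi_eps F
  haveI : IsLocallyNoetherian (PS r k) := inferInstanceAs (IsLocallyNoetherian (CohB1.ProjSpace r k))
  exact Groth.L16.CohSupport.isCoh_of_iso
    (IsColimit.coconePointUniqueUpToIso (cokernelIsCokernel (dHom F 0)) (exact_zero' F).gIsCokernel)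
    (CohKernel.isCoh_kernel_cokernel (isCoh_Fr (F.deg 1)) (isCoh_Fr (F.deg 0)) (dHom F 0)).2

end Rho

end Groth.L13.GrSheaf
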