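import Groth.Agent.L13.GrSheaf.Hom

/-!
Morphisms `O(-d) ⟶ M~` are the sections of `M(d)~`.
-/

set_option autoImplicit false
set_option backward.isDefEq.respectTransparency false
universe u

open CategoryTheory CategoryTheory.Limits AlgebraicGeometry TopologicalSpace Opposite TopCat

noncomputable section

namespace Groth.L13.GrSheaf

open Groth.L22.SyzTilde
open Groth.L16

variable {k : Type u} [Field k] {r : ℕ}
variable {M : Type u} [AddCommGroup M] [Module k M] [Module (S r k) M] [IsScalarTower k (S r k) M]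
  {ℳ : ℤ → Submodule k M} [DirectSum.Decomposition ℳ] [SetLike.GradedSMul (G r k) ℳ]
  [SetLike.GradedSMul (CohB1.polyGrading r k) (fun n : ℕ => ℳ (n : ℤ))]

local notation "𝔓" => CohB1.polyGrading r k
local notation "ℳ'" => (fun n : ℕ => ℳ (n : ℤ))

variable {d : ℕ}

theorem smul_mem_tilde_zero {x : ProjectiveSpectrum 𝔓} {c : Twist.Loc 𝔓 x} {q : GrTilde.LocMod 𝔓 (M := M) x}
    (hc : c ∈ Twist.twistAt 𝔓 (-(d : ℤ)) x) (hq : q ∈ GrTilde.tildeAt 𝔓 ℳ' (d : ℤ) x) :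
    c • q ∈ GrTilde.tildeAt 𝔓 ℳ' 0 x := by
  rcases exists_fractionT hc with rfl | ⟨i, j, a, s, hs, hij, rfl⟩
  · rw [zero_smul]; exact zero_mem _
  rcases exists_fractionM (ℳ := ℳ') hq with rfl | ⟨i', j', m, s', hs', hij', rfl⟩
  · rw [smul_zero]; exact zero_mem _
  refine Submodule.subset_span ⟨i + i', j + j', ⟨a.1 • m.1, ?_⟩, ⟨s.1 * s'.1, SetLike.mul_mem_graded s.2 s'.2⟩,
    ProjTwist.notMem_mul 𝔓 hs hs', by push_cast; omega, ?_⟩
  · exact SetLike.GradedSMul.smul_mem (A := 𝔓) (B := ℳ') a.2 m.2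
  · rw [LocalizedModule.mk_smul_mk]
    rfl


/-- Multiplication of a section of `O(-d)` by a section of `M(d)~`. -/
def sectMulSec (t : GrTilde.sect 𝔓 ℳ' (d : ℤ) (op (⊤ : Opens (ProjectiveSpectrum.top 𝔓)))) (U : (Opens (ProjectiveSpectrum.top 𝔓))ᵒᵖ) :
    Twist.sectN (𝒜 := 𝔓) (-(d : ℤ)) U →+ GrTilde.sect 𝔓 ℳ' 0 U where
  toFun f := ⟨fun x : U.unop => (⟨(f.1 x).1 • (t.1 ⟨x.1, trivial⟩).1,
      smul_mem_tilde_zero (f.1 x).2 (t.1 ⟨x.1, trivial⟩).2⟩ : GrTilde.tildeAt 𝔓 ℳ' 0 x.1), fun x : U.unop => by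
    obtain ⟨V, mV, iV, i, j, a, s, nin, c, w⟩ := f.2 x
    obtain ⟨V', mV', iV', i', j', m, s', nin', c', w'⟩ :=
      t.2 (⟨x.1, trivial⟩ : (⊤ : Opens (ProjectiveSpectrum.top 𝔓)))
    have hn : ∀ y : (V ⊓ V' : Opens _), s.1 * s'.1 ∉ y.1.asHomogeneousIdeal := fun y =>
      ProjTwist.notMem_mul 𝔓 (nin ⟨y.1, y.2.1⟩) (nin' ⟨y.1, y.2.2⟩)
    refine ⟨V ⊓ V', ⟨mV, mV'⟩, Opens.infLELeft _ _ ≫ iV, i + i', j + j',
      ⟨a.1 • m.1, SetLike.GradedSMul.smul_mem (A := 𝔓) (B := ℳ') a.2 m.2⟩,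
      ⟨s.1 * s'.1, SetLike.mul_mem_graded s.2 s'.2⟩, hn, ?_, fun y => ?_⟩
    · rcases c with c | c
      · rcases c' with c' | c'
        · exact Or.inl (by push_cast; omega)
        · exact Or.inr (show a.1 • m.1 = 0 by rw [c', smul_zero])
      · exact Or.inr (show a.1 • m.1 = 0 by rw [c, zero_smul])
    · show (f.1 (iV ⟨y.1, y.2.1⟩)).1 • (t.1 (iV' ⟨y.1, y.2.2⟩)).1 = _
      erw [w ⟨y.1, y.2.1⟩, w' ⟨y.1, y.2.2⟩]
      rw [LocalizedModule.mk_smul_mk]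
      rfl⟩
  map_zero' := Subtype.ext (funext fun x => Subtype.ext (zero_smul _ _))
  map_add' f g := Subtype.ext (funext fun x => Subtype.ext (add_smul _ _ _))

/-- The morphism `O(-d) ⟶ M~` of a section of `M(d)~`. -/
def sectHom (t : GrTilde.sect 𝔓 ℳ' (d : ℤ) (op (⊤ : Opens (ProjectiveSpectrum.top 𝔓)))) : Tw r k (-(d : ℤ)) ⟶ GrTilde.tilde 𝔓 ℳ' 0 :=
  ⟨PresheafOfModules.homMk
    { app := fun U => AddCommGrpCat.ofHom (sectMulSec t U)
      naturality := fun _ _ _ => rfl }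
    fun U q f => Subtype.ext (funext fun x => Subtype.ext (by
      show ((q.1 x) • (f.1 x) : Twist.twistAt 𝔓 (-(d : ℤ)) x.1).1 • (t.1 ⟨x.1, trivial⟩).1 =
        ((q.1 x) • (⟨_, smul_mem_tilde_zero (f.1 x).2 (t.1 ⟨x.1, trivial⟩).2⟩ :
          GrTilde.tildeAt 𝔓 ℳ' 0 x.1)).1
      rw [Twist.coe_smul_val, GrTilde.coe_smul_val, mul_smul]))⟩

theorem evalM_sectHom (t : GrTilde.sect 𝔓 ℳ' (d : ℤ) (op (⊤ : Opens (ProjectiveSpectrum.top 𝔓)))) (x : ProjectiveSpectrum 𝔓)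
    (z : (Groth.L21.Mod.stalkF (Proj 𝔓) x).obj (Tw r k (-(d : ℤ)))) :
    evalM ℳ' 0 x (st x (sectHom t) z) = evalT (-(d : ℤ)) x z • (t.1 ⟨x, trivial⟩).1 := by
  obtain ⟨U, hx, s, rfl⟩ := TopCat.Presheaf.exists_germ_eq (Tw r k (-(d : ℤ))).presheaf z
  refine (congrArg (evalM _ 0 x) (Groth.L21.Mod.stalkF_map_germ (sectHom t) U x hx s)).trans ?_
  refine (evalM_germ (ℳ := ℳ') 0 x U hx _).trans ?_
  exact congrArg (· • (t.1 ⟨x, trivial⟩).1) (evalT_germ (-(d : ℤ)) x U hx s).symm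

theorem globalOf_val {m : M} (hm : m ∈ ℳ (d : ℤ)) (x : ProjectiveSpectrum 𝔓) :
    ((GrTilde.globalOf 𝔓 ℳ' (i := d) ⟨m, hm⟩).1 ⟨x, trivial⟩).1 =
      (LocalizedModule.mk m ⟨1, ProjTwist.one_notMem _ x⟩ : GrTilde.LocMod 𝔓 (M := M) x) := rfl

/-- A section of `M(d)~` whose morphism comes from `m` is the section of `m`. -/
theorem eq_globalOf_of_sectHom (t : GrTilde.sect 𝔓 ℳ' (d : ℤ) (op (⊤ : Opens (ProjectiveSpectrum.top 𝔓)))) {m : M} (hm : m ∈ ℳ (d : ℤ))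
    (h : rhoHom (r := r) (k := k) (ℳ := ℳ) (n := -(d : ℤ)) hm (by omega) = sectHom t) :
    GrTilde.globalOf 𝔓 ℳ' (i := d) ⟨m, hm⟩ = t := by
  refine Subtype.ext (funext fun x => Subtype.ext ?_)
  obtain ⟨i, hi⟩ := ProjSpace.exists_mem_basicOpen_X r k x.1
  have hXe : ((MvPolynomial.X i : S r k) ^ d) ∈ CohB1.polyGrading r k d := by
    simpa using SetLike.pow_mem_graded d (ProjSpace.X_mem r k i)
  have hXx : ((MvPolynomial.X i : S r k) ^ d) ∉ x.1.asHomogeneousIdeal := fun hh =>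
    (Proj.mem_basicOpen _ _ _).1 hi (x.1.isPrime.mem_of_pow_mem d hh)
  obtain ⟨z, hz⟩ := exists_evalT_eq (𝒜 := 𝔓) (n := -(d : ℤ)) (x := x.1)
    (⟨1, SetLike.GradedOne.one_mem⟩ : CohB1.polyGrading r k 0) ⟨_, hXe⟩ hXx (by simp)
  have e1 := evalM_rhoHom (r := r) (k := k) (ℳ := ℳ) hm (show -(d : ℤ) + d = 0 by omega) x.1 z
  have e2 := evalM_sectHom t x.1 z
  rw [← h] at e2
  have e3 := e1.symm.trans e2
  rw [hz] at e3
  have e4 := congrArg (fun q => (toLoc x.1 ((MvPolynomial.X i : S r k) ^ d)) • q) e3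
  have hu : toLoc x.1 ((MvPolynomial.X i : S r k) ^ d) * Localization.mk (1 : S r k) ⟨_, hXx⟩ = 1 := by
    rw [toLoc, Localization.mk_mul, ← Localization.mk_one, Localization.mk_eq_mk_iff, Localization.r_iff_exists]
    exact ⟨1, by simp [mul_comm]⟩
  simp only [smul_smul, hu, one_smul] at e4
  exact e4

/-- Every morphism `O(-d) ⟶ M~` is the morphism of `m`, if every section of `M(d)~` comes from `M_d`. -/
theorem exists_rhoHom_eq
    (hsurj : Function.Surjective fun m : ↥(ℳ (d : ℤ)) => GrTilde.globalOf 𝔓 ℳ' (i := d) m)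
    (φ : Tw r k (-(d : ℤ)) ⟶ GrTilde.tilde 𝔓 ℳ' 0) :
    ∃ (m : M) (hm : m ∈ ℳ (d : ℤ)),
      rhoHom (r := r) (k := k) (ℳ := ℳ) (n := -(d : ℤ)) hm (by omega) = φ := by
  classical
  let U : Fin (r + 1) → Opens (ProjectiveSpectrum.top 𝔓) := fun i => Proj.basicOpen 𝔓 (MvPolynomial.X i)
  have hXe : ∀ i : Fin (r + 1), ((MvPolynomial.X i : S r k) ^ d) ∈ CohB1.polyGrading r k d := fun i => by
    simpa using SetLike.pow_mem_graded d (ProjSpace.X_mem r k i)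
  have hXx : ∀ i (y : U i), ((MvPolynomial.X i : S r k) ^ d) ∉ y.1.asHomogeneousIdeal := fun i y hh =>
    (Proj.mem_basicOpen _ _ _).1 y.2 (y.1.isPrime.mem_of_pow_mem d hh)
  let a0 : CohB1.polyGrading r k 0 := ⟨1, SetLike.GradedOne.one_mem⟩
  let g : ∀ i (W : Opens (ProjectiveSpectrum.top 𝔓)), W ≤ U i → Twist.sectN (𝒜 := 𝔓) (-(d : ℤ)) (op W) :=
    fun i W hW => ProjTwist.gen a0 ⟨_, hXe i⟩ (by simp) W fun y => hXx i ⟨y.1, hW y.2⟩
  let s : ∀ i, GrTilde.sect 𝔓 ℳ' 0 (op (U i)) := fun i =>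
    φ.app (show (Proj 𝔓).Opens from U i) (g i (U i) le_rfl)
  have key : ∀ i (x : ProjectiveSpectrum 𝔓) (hx : x ∈ U i)
      (z : (Groth.L21.Mod.stalkF (Proj 𝔓) x).obj (Tw r k (-(d : ℤ)))),
      evalM ℳ' 0 x (st x φ z) =
        (evalT (-(d : ℤ)) x z * toLoc x ((MvPolynomial.X i : S r k) ^ d)) • ((s i).1 ⟨x, hx⟩).1 := by
    intro i x hx z
    obtain ⟨W₀, hx₀, f₀, rfl⟩ := TopCat.Presheaf.exists_germ_eq (Tw r k (-(d : ℤ))).presheaf z
    let W : Opens (ProjectiveSpectrum.top 𝔓) := W₀ ⊓ U i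
    have hxW : x ∈ W := ⟨hx₀, hx⟩
    rw [← TopCat.Presheaf.germ_res_apply (Tw r k (-(d : ℤ))).presheaf
      (homOfLE (inf_le_left : W ≤ W₀)) x hxW f₀]
    generalize (Tw r k (-(d : ℤ))).presheaf.map (homOfLE (inf_le_left : W ≤ W₀)).op f₀ = f
    obtain ⟨c, hc⟩ := ProjTwist.smul_gen_surjective a0 ⟨_, hXe i⟩ (by simp) W
      (fun y => ProjTwist.one_notMem 𝔓 y.1) (fun y => hXx i ⟨y.1, (inf_le_right : W ≤ U i) y.2⟩) f
    subst hc
    refine (congrArg (evalM ℳ' 0 x) (Groth.L21.Mod.stalkF_map_germ φ W x hxW _)).trans ?_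
    refine (evalM_germ (ℳ := ℳ') 0 x W hxW _).trans ?_
    let gW : Twist.sectN (𝒜 := 𝔓) (-(d : ℤ)) (op W) := g i W inf_le_right
    have h1 : φ.app (show (Proj 𝔓).Opens from W) (show Γ(Tw r k (-(d : ℤ)), W) from c • gW) =
        (show Γ(Proj 𝔓, W) from c) • φ.app (show (Proj 𝔓).Opens from W) (show Γ(Tw r k (-(d : ℤ)), W) from gW) :=
      Scheme.Modules.Hom.app_smul (U := (show (Proj 𝔓).Opens from W)) φ (show Γ(Proj 𝔓, W) from c) _
    have h2 : (show GrTilde.sect 𝔓 ℳ' 0 (op W) from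
        φ.app (show (Proj 𝔓).Opens from W) (show Γ(Tw r k (-(d : ℤ)), W) from gW)) =
        GrTilde.res 𝔓 ℳ' 0 (homOfLE (inf_le_right : W ≤ U i)).op (s i) :=
      ConcreteCategory.congr_hom (φ.mapPresheaf.naturality (homOfLE (inf_le_right : W ≤ U i)).op) (g i (U i) le_rfl)
    have e1 : ((show GrTilde.sect 𝔓 ℳ' 0 (op W) from
          φ.app (show (Proj 𝔓).Opens from W) (show Γ(Tw r k (-(d : ℤ)), W) from c • gW)).1 ⟨x, hxW⟩).1 =
        (c.1 ⟨x, hxW⟩).val • ((s i).1 ⟨x, hx⟩).1 := by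
      have hq := congrArg (fun q : GrTilde.sect 𝔓 ℳ' 0 (op W) => (q.1 ⟨x, hxW⟩).1) h1
      refine hq.trans ?_
      refine (GrTilde.coe_smul_val (ℳ := ℳ') 0 x (c.1 ⟨x, hxW⟩) _).trans ?_
      exact congrArg (fun q : GrTilde.sect 𝔓 ℳ' 0 (op W) => (c.1 ⟨x, hxW⟩).val • (q.1 ⟨x, hxW⟩).1) h2
    refine e1.trans ?_
    refine congrArg (· • ((s i).1 ⟨x, hx⟩).1) ?_
    have e2 : evalT (-(d : ℤ)) x ((Tw r k (-(d : ℤ))).presheaf.germ W x hxW (c • gW :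
        Twist.sectN (𝒜 := 𝔓) (-(d : ℤ)) (op W))) = (c.1 ⟨x, hxW⟩).val * Localization.mk (1 : S r k)
          ⟨_, hXx i ⟨x, hx⟩⟩ :=
      (evalT_germ (-(d : ℤ)) x W hxW (c • gW)).trans (Twist.coe_smul_val (-(d : ℤ)) x (c.1 ⟨x, hxW⟩) _)
    refine Eq.trans ?_ (congrArg (· * toLoc x ((MvPolynomial.X i : S r k) ^ d)) e2).symm
    rw [mul_assoc, toLoc, Localization.mk_mul]
    rw [show Localization.mk (1 * (MvPolynomial.X i : S r k) ^ d)
      ((⟨_, hXx i ⟨x, hx⟩⟩ : x.asHomogeneousIdeal.toIdeal.primeCompl) * ⟨1, ProjTwist.one_notMem _ x⟩) = 1 from by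
        rw [← Localization.mk_one, Localization.mk_eq_mk_iff, Localization.r_iff_exists]
        exact ⟨1, by simp⟩, mul_one]
  have htd : ∀ i (x : ProjectiveSpectrum 𝔓) (hx : x ∈ U i),
      toLoc x ((MvPolynomial.X i : S r k) ^ d) • ((s i).1 ⟨x, hx⟩).1 ∈ GrTilde.tildeAt 𝔓 ℳ' (d : ℤ) x := by
    intro i x hx
    rcases exists_fractionM (ℳ := ℳ') ((s i).1 ⟨x, hx⟩).2 with h0 | ⟨p, q, m, b, hb, hpq, h0⟩
    · rw [h0, smul_zero]; exact zero_mem _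
    · rw [h0, toLoc, LocalizedModule.mk_smul_mk]
      refine Submodule.subset_span ⟨d + p, q, ⟨_, SetLike.GradedSMul.smul_mem (A := 𝔓) (B := ℳ') (hXe i) m.2⟩, b,
        hb, by push_cast; omega, ?_⟩
      congr 1
      exact Subtype.ext (one_mul _)
  have hcons : ∀ (i j : Fin (r + 1)) (x : ProjectiveSpectrum 𝔓) (hi : x ∈ U i) (hj : x ∈ U j),
      toLoc x ((MvPolynomial.X i : S r k) ^ d) • ((s i).1 ⟨x, hi⟩).1 =
        toLoc x ((MvPolynomial.X j : S r k) ^ d) • ((s j).1 ⟨x, hj⟩).1 := by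
    intro i j x hi hj
    obtain ⟨z, hz⟩ := exists_evalT_eq (𝒜 := 𝔓) (n := -(d : ℤ)) (x := x)
      a0 ⟨_, hXe i⟩ (hXx i ⟨x, hi⟩) (by simp)
    have e := (key i x hi z).symm.trans (key j x hj z)
    rw [hz, mul_smul, mul_smul] at e
    have hu : toLoc x ((MvPolynomial.X i : S r k) ^ d) * Localization.mk (1 : S r k)
        ⟨_, hXx i ⟨x, hi⟩⟩ = 1 := by
      rw [toLoc, Localization.mk_mul, ← Localization.mk_one, Localization.mk_eq_mk_iff, Localization.r_iff_exists]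
      exact ⟨1, by simp [mul_comm]⟩
    have e' := congrArg (fun q => toLoc x ((MvPolynomial.X i : S r k) ^ d) • q) e
    simp only [← mul_smul, ← mul_assoc] at e'
    rw [hu, one_mul, one_mul] at e'
    exact e'
  choose ix hix using fun x : (⊤ : Opens (ProjectiveSpectrum.top 𝔓)) => ProjSpace.exists_mem_basicOpen_X r k x.1
  let tt : GrTilde.sect 𝔓 ℳ' (d : ℤ) (op (⊤ : Opens (ProjectiveSpectrum.top 𝔓))) :=
    ⟨fun x => ⟨_, htd (ix x) x.1 (hix x)⟩, fun x => by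
      obtain ⟨V, hV, iV, p, q, pa, ps, nin, hd, hw⟩ := (s (ix x)).2 ⟨x.1, hix x⟩
      refine ⟨V, hV, iV ≫ homOfLE le_top, d + p, q,
        ⟨_, SetLike.GradedSMul.smul_mem (A := 𝔓) (B := ℳ') (hXe (ix x)) pa.2⟩, ps, nin, ?_, fun y => ?_⟩
      · rcases hd with hd | hd
        · exact Or.inl (by push_cast; omega)
        · exact Or.inr (show _ • pa.1 = 0 by rw [hd, smul_zero])
      · refine (hcons (ix ⟨y.1, trivial⟩) (ix x) y.1 (hix ⟨y.1, trivial⟩) (leOfHom iV y.2)).trans ?_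
        refine (congrArg (fun q => toLoc y.1 ((MvPolynomial.X (ix x) : S r k) ^ d) • q) (hw y)).trans ?_
        rw [toLoc, LocalizedModule.mk_smul_mk]
        congr 1
        exact Subtype.ext (one_mul _)⟩
  obtain ⟨⟨m, hm⟩, hmt⟩ := hsurj tt
  refine ⟨m, hm, ext_of_stalks fun x z => evalM_injective 0 x ?_⟩
  refine (evalM_rhoHom (r := r) (k := k) (ℳ := ℳ) hm (show -(d : ℤ) + d = 0 by omega) x z).trans ?_
  rw [key (ix ⟨x, trivial⟩) x (hix ⟨x, trivial⟩) z, mul_smul, ← globalOf_val hm x]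
  exact congrArg (fun q : GrTilde.sect 𝔓 ℳ' (d : ℤ) (op (⊤ : Opens (ProjectiveSpectrum.top 𝔓))) => evalT (-(d : ℤ)) x z • (q.1 ⟨x, trivial⟩).1) hmt

end Groth.L13.GrSheaf
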