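import Groth.Agent.L13.GrSheaf.Cls
import Groth.Agent.L13.GrSheaf.Sect

/-!
The `d`-regularity of a graded module in terms of its sheaf.
-/

set_option autoImplicit false
set_option backward.isDefEq.respectTransparency false
universe u

open CategoryTheory CategoryTheory.Limits AlgebraicGeometry TopologicalSpace Opposite TopCat

noncomputable section

namespace Groth.L13.GrSheaf

open Groth.L22.SyzTilde
open Groth.L22.Reg (Regular O' tw' shortExact_tw)
open Groth.L16

variable {k : Type u} [Field k] {r : ℕ}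
variable {M : Type u} [AddCommGroup M] [Module k M] [Module (S r k) M] [IsScalarTower k (S r k) M]
  {ℳ : ℤ → Submodule k M} [DirectSum.Decomposition ℳ] [SetLike.GradedSMul (G r k) ℳ]
  [SetLike.GradedSMul (CohB1.polyGrading r k) (fun n : ℕ => ℳ (n : ℤ))]

theorem rhoHom_congr {e n : ℤ} {u v : M} (huv : u = v) (hu : u ∈ ℳ e) (hv : v ∈ ℳ e) (h : n + e = 0) :
    rhoHom (r := r) (k := k) (ℳ := ℳ) hu h = rhoHom hv h := by
  subst huv; rfl

theorem rhoHom_sum {e n : ℤ} (h : n + e = 0) {ι : Type*} (s : Finset ι) (u : ι → M) (hu : ∀ i, u i ∈ ℳ e) :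
    rhoHom (r := r) (k := k) (ℳ := ℳ) (sum_mem fun i _ => hu i : ∑ i ∈ s, u i ∈ ℳ e) h =
      ∑ i ∈ s, rhoHom (hu i) h := by
  classical
  induction s using Finset.induction_on with
  | empty =>
    simp only [Finset.sum_empty]
    exact rhoHom_eq_zero _ h fun i => ⟨0, by simp⟩
  | insert i s hi ih =>
    refine (rhoHom_congr (Finset.sum_insert hi) _ (add_mem (hu i) (sum_mem fun a _ => hu a)) h).trans ?_
    rw [rhoHom_add (hu i) (sum_mem fun a _ => hu a) h, ih, Finset.sum_insert hi]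

theorem eq_of_rhoHom {e e' n : ℤ} {u v : M} (huv : u = v) (hu : u ∈ ℳ e) (hv : v ∈ ℳ e') (he : e = e')
    (h : n + e = 0) (h' : n + e' = 0) :
    rhoHom (r := r) (k := k) (ℳ := ℳ) hu h = rhoHom hv h' := by
  subst huv; subst he; rfl

/-- Regularity gives the surjectivity onto the sections in degree `d`. -/
theorem surjective_globalOf (F : GrSyz.FreeRes (G r k) ℳ) {d : ℕ} (hd : F.IsGenLE (d : ℤ)) :
    Function.Surjective fun m : ↥(ℳ (d : ℤ)) =>
      GrTilde.globalOf (CohB1.polyGrading r k) (fun n : ℕ => ℳ (n : ℤ)) (i := d) m := by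
  intro t
  classical
  haveI := epi_eps F
  haveI : IsLocallyNoetherian (PS r k) := inferInstanceAs (IsLocallyNoetherian (CohB1.ProjSpace r k))
  let B : ℕ → (CohB1.ProjSpace r k).Modules
    | 0 => kernel (eps F)
    | i + 1 => kernel (dHom F i)
  have hM := isCoh_tilde F
  have hKreg : Regular (n := r) (R := k) (kernel (eps F)) ((d : ℤ) + 1) := by
    refine regular_of_resolution (fun i => Fr (F.deg (i + 1))) B (fun i => ?_)
      (fun i => regular_Fr fun b => ?_) (fun i => ?_)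
    · match i with
      | 0 => exact (CohKernel.isCoh_kernel_cokernel (isCoh_Fr _) hM (eps F)).1
      | i + 1 => exact (CohKernel.isCoh_kernel_cokernel (isCoh_Fr _) (isCoh_Fr _) (dHom F i)).1
    · have := hd (i + 1) b
      push_cast at this
      omega
    · match i with
      | 0 =>
        let v : Fr (F.deg 1) ⟶ kernel (eps F) := kernel.lift _ (dHom F 0) (eps_comp F)
        haveI : Epi v := (ShortComplex.exact_iff_epi_kernel_lift _).1 (exact_zero' F)
        exact ses_of_lift (dHom F 0) v (kernel.ι (eps F)) (kernel.lift_ι _ _ _)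
      | i + 1 =>
        let v : Fr (F.deg (i + 2)) ⟶ kernel (dHom F i) := kernel.lift _ (dHom F (i + 1)) (dHom_comp F i)
        haveI : Epi v := (ShortComplex.exact_iff_epi_kernel_lift _).1 (exact_succ' F i)
        exact ses_of_lift (dHom F (i + 1)) v (kernel.ι (dHom F i)) (kernel.lift_ι _ _ _)
  have hS : (ShortComplex.mk (kernel.ι (eps F)) (eps F) (kernel.condition (eps F))).ShortExact :=
    { exact := ShortComplex.exact_kernel (eps F), epi_g := epi_eps F }
  have h1 := hKreg 1 le_rfl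
  rw [show (d : ℤ) + 1 - ((1 : ℕ) : ℤ) = (d : ℤ) by omega] at h1
  obtain ⟨l, hl⟩ := exists_lift hS (d : ℤ) h1 (sectHom t)
  have hle : ∀ b, F.deg 0 b ≤ (d : ℤ) := fun b => by simpa using hd 0 b
  choose p hp he using fun b => exists_eq_mulHom (k := k) (r := r) (a := -(d : ℤ)) (b := -F.deg 0 b)
    (δ := (d : ℤ) - F.deg 0 b) (by omega) (by have := hle b; omega) (l ≫ pr (F.deg 0) b)
  have hmem : ∀ b, p b • F.aug b ∈ ℳ (d : ℤ) := fun b => by
    have := Groth.L12.GrSyzLib.smul_mem_add ℳ (GrSyz.stdGr k (Fin (r + 1))) (hp b) (F.aug_mem b)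
    rwa [sub_add_cancel] at this
  refine ⟨⟨∑ b, p b • F.aug b, sum_mem fun b _ => hmem b⟩, eq_globalOf_of_sectHom t _ ?_⟩
  rw [rhoHom_sum _ Finset.univ _ hmem, ← hl]
  show _ = l ≫ augHom (ℳ := ℳ) F.aug F.aug_mem
  rw [augHom, Preadditive.comp_sum]
  refine Finset.sum_congr rfl fun b _ => ?_
  rw [← Category.assoc, he b, mulHom_rhoHom]
  exact eq_of_rhoHom rfl _ _ (by omega) _ _
where
  ses_of_lift {C : Type (u + 1)} [Category.{u} C] [Abelian C] {A A' Z : C} (f : A ⟶ A') (v : A ⟶ Z) (ι : Z ⟶ A')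
      [Mono ι] [Epi v] (hv : v ≫ ι = f) :
      ∃ (p : kernel f ⟶ A) (q : A ⟶ Z) (w : p ≫ q = 0), (ShortComplex.mk p q w).ShortExact := by
    refine ⟨kernel.ι f, v, by rw [← cancel_mono ι, Category.assoc, hv, kernel.condition, zero_comp],
      { exact := ShortComplex.exact_of_f_is_kernel _ (KernelFork.IsLimit.ofι _ _
          (fun g hg => kernel.lift _ g (by rw [← hv, reassoc_of% hg, zero_comp]))
          (fun g hg => kernel.lift_ι _ _ _)
          (fun g hg m hm => by rw [← cancel_mono (kernel.ι f), kernel.lift_ι, hm])) }⟩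

/-- An element with zero morphism is torsion. -/
theorem mem_gam_of_rhoHom_eq_zero {e : ℕ} {m : M} (hm : m ∈ ℳ (e : ℤ))
    (h0 : rhoHom (r := r) (k := k) (ℳ := ℳ) (n := -(e : ℤ)) hm (by omega) = 0) :
    m ∈ GrLC.gam (GrSyz.irrel (GrSyz.stdGr k (Fin (r + 1)))).toIdeal M := by
  have hle : Groth.L12.GrSyzLib.mm k (Fin (r + 1)) ≤
      Ideal.radical (LinearMap.ker (LinearMap.toSpanSingleton (S r k) M m)) := by
    rw [Groth.L12.GrLCLib.mm_eq_span_X, Ideal.span_le]
    rintro _ ⟨i, -, rfl⟩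
    obtain ⟨N, hN⟩ := exists_pow_smul_eq_zero hm h0 i
    exact ⟨N, hN⟩
  obtain ⟨N, hN⟩ := Ideal.exists_pow_le_of_le_radical_of_fg hle (IsNoetherian.noetherian _)
  exact ⟨N, fun c hc => LinearMap.mem_ker.1 (hN hc)⟩

/-- The class member given by `M~`. -/
def clsTilde [Module.Finite (S r k) M] {d : ℕ} (F : GrSyz.FreeRes (G r k) ℳ)
    (hreg : Regular (n := r) (R := k) (GrTilde.tilde (CohB1.polyGrading r k) (fun n : ℕ => ℳ (n : ℤ)) 0) (d : ℤ))
    (h0 : ∀ e : ℤ, (d : ℤ) < e → ∀ m ∈ GrLC.gam (GrSyz.irrel (GrSyz.stdGr k (Fin (r + 1)))).toIdeal M,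
      m ∈ ℳ e → m = 0)
    (hsurj : Function.Surjective fun m : ↥(ℳ (d : ℤ)) =>
      GrTilde.globalOf (CohB1.polyGrading r k) (fun n : ℕ => ℳ (n : ℤ)) (i := d) m) : Cls r d ℳ where
  F := GrTilde.tilde (CohB1.polyGrading r k) (fun n : ℕ => ℳ (n : ℤ)) 0
  coh := isCoh_tilde F
  reg := hreg
  Ψ n u hu := rhoHom (r := r) (k := k) (ℳ := ℳ) hu (show -n + n = 0 by omega)
  add n u v hu hv := rhoHom_add hu hv _
  compat δ e n p u hp hu h hpu := by
    rw [mulHom_rhoHom]
    exact eq_of_rhoHom rfl _ _ (by omega) _ _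
  surj := exists_rhoHom_eq hsurj
  inj n hn u hu h := by
    obtain ⟨e, rfl⟩ : ∃ e : ℕ, (e : ℤ) = n := ⟨n.toNat, Int.toNat_of_nonneg (by omega)⟩
    exact h0 e hn u (mem_gam_of_rhoHom_eq_zero hu h) hu

end Groth.L13.GrSheaf
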